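import Mathlib
import Groth.Prelude.Def_EtRam

/-!
# Radical extensions of a discrete valuation ring are tame

`L` generated by `t j` with `t j ^ n j = a j`, all `n j` invertible, `a i` a uniformizer, the other
`a j` units.
-/

set_option autoImplicit false

universe u

open IsLocalRing

namespace TameKummerLib

/-- An algebra over a field generated by roots of separable polynomials is reduced. -/
theorem isReduced_of_adjoin {k Q : Type u} [Field k] [CommRing Q] [Algebra k Q] {ι : Type} [Finite ι]
    (x : ι → Q) (hgen : Algebra.adjoin k (Set.range x) = ⊤)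
    (hx : ∀ j, ∃ P : Polynomial k, P.Separable ∧ Polynomial.aeval (x j) P = 0) : IsReduced Q := by
  haveI : Algebra.FiniteType k Q :=
    ⟨⟨(Set.finite_range x).toFinset, by rw [Set.Finite.coe_toFinset]; exact hgen⟩⟩
  haveI : Algebra.FormallyUnramified k Q := by
    refine ⟨subsingleton_of_forall_eq 0 fun w => ?_⟩
    have hker : ∀ y : Q, KaehlerDifferential.D k Q y = 0 := fun y => by
      have hy : y ∈ Algebra.adjoin k (Set.range x) := hgen ▸ Algebra.mem_top
      induction hy using Algebra.adjoin_induction with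
      | mem y hy =>
        obtain ⟨j, rfl⟩ := hy
        obtain ⟨P, hP, hP0⟩ := hx j
        obtain ⟨a, b, hab⟩ := hP
        have h1 := congrArg (Polynomial.aeval (x j)) hab
        rw [map_add, map_mul, map_mul, hP0, mul_zero, zero_add, map_one] at h1
        have h2 : Polynomial.aeval (x j) (Polynomial.derivative P) • KaehlerDifferential.D k Q (x j) = 0 := by
          rw [← Derivation.map_aeval, hP0, map_zero]
        rw [← one_smul Q (KaehlerDifferential.D k Q (x j)), ← h1, mul_smul, h2, smul_zero]
      | algebraMap a => exact Derivation.map_algebraMap _ a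
      | add y z _ _ hy hz => rw [map_add, hy, hz, add_zero]
      | mul y z _ _ hy hz => rw [Derivation.leibniz, hy, hz, smul_zero, smul_zero, add_zero]
    have hw : w ∈ Submodule.span Q (Set.range (KaehlerDifferential.D k Q)) := by
      rw [KaehlerDifferential.span_range_derivation]; exact Submodule.mem_top
    have : Set.range (KaehlerDifferential.D k Q) ⊆ {0} := by rintro _ ⟨y, rfl⟩; exact hker y
    simpa using Submodule.span_mono this hw
  exact Algebra.FormallyUnramified.isReduced_of_field k Q

/-- In a reduced algebra integral over a field, every element times a suitable unit-mod-`ker` is `0`. -/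
theorem exists_annihilator {k Q ℓ : Type u} [Field k] [CommRing Q] [Algebra k Q] [IsReduced Q]
    [Algebra.IsIntegral k Q] [Field ℓ] [Algebra k ℓ] (ψ : Q →ₐ[k] ℓ) (c : Q) (hc : ψ c = 0) :
    ∃ s : Q, ψ s ≠ 0 ∧ s * c = 0 := by
  obtain ⟨P, hP0, hP⟩ := (Algebra.IsIntegral.isIntegral (R := k) c).isAlgebraic
  obtain ⟨G, hG, hG'⟩ := Polynomial.exists_eq_pow_rootMultiplicity_mul_and_not_dvd P hP0 (0 : k)
  rw [map_zero, sub_zero] at hG hG'
  refine ⟨Polynomial.aeval c G, ?_, ?_⟩
  · rw [← Polynomial.aeval_algHom_apply, hc, ← Polynomial.coeff_zero_eq_aeval_zero']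
    intro h
    exact hG' (Polynomial.X_dvd_iff.2 ((map_eq_zero_iff _ (algebraMap k ℓ).injective).1 h))
  · refine eq_zero_of_pow_eq_zero (n := P.rootMultiplicity 0 + 1) ?_
    rw [hG, map_mul, map_pow, Polynomial.aeval_X] at hP
    calc (Polynomial.aeval c G * c) ^ (P.rootMultiplicity 0 + 1)
        = c * Polynomial.aeval c G ^ (P.rootMultiplicity 0) *
          (c ^ (P.rootMultiplicity 0) * Polynomial.aeval c G) := by ring
      _ = 0 := by rw [hP, mul_zero]

variable {R : Type u} [CommRing R] [IsDomain R] [IsDiscreteValuationRing R] {L : Type u} [Field L]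

/-- **Tameness of radical extensions.** -/
theorem isTamelyRamified_of_radical (g : R →+* L) (hg : Function.Injective g) {r : ℕ} (i : Fin r)
    (n : Fin r → ℕ) (hn : ∀ j, IsUnit ((n j : ℕ) : R)) (a : Fin r → R) (hi : Irreducible (a i))
    (ha : ∀ j, j ≠ i → IsUnit (a j)) (t : Fin r → L) (ht : ∀ j, t j ^ n j = g (a j))
    (hfrac : ∀ x : L, ∃ y z : L, y ∈ Subring.closure (Set.range g ∪ Set.range t) ∧
      z ∈ Subring.closure (Set.range g ∪ Set.range t) ∧ z ≠ 0 ∧ x = y / z) :
    EtRam.IsTamelyRamified R g := by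
  intro V hV
  letI : Algebra R L := g.toAlgebra
  letI : Algebra R V := (RingHom.codRestrict g V hV.1).toAlgebra
  intro hloc
  classical
  have hn1 : ∀ j, 1 ≤ n j := fun j => Nat.one_le_iff_ne_zero.2 fun h => by
    have := hn j; rw [h, Nat.cast_zero] at this; exact not_isUnit_zero this
  let C : Subalgebra R L := Algebra.adjoin R (Set.range t)
  have hCclos : ∀ y ∈ Subring.closure (Set.range g ∪ Set.range t), y ∈ C := fun y hy =>
    (Subring.closure_le (t := C.toSubring)).2 (Set.union_subset
      (by rintro _ ⟨b, rfl⟩; exact C.algebraMap_mem b) Algebra.subset_adjoin) hy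
  -- valuations of the generators
  have hvu : ∀ b : R, IsUnit b → V.valuation (g b) = 1 := fun b hb => by
    rw [← V.valuation_eq_one_iff (⟨g b, hV.1 b⟩ : V)]
    exact hb.map (RingHom.codRestrict g V hV.1)
  have htj : ∀ j, j ≠ i → V.valuation (t j) = 1 := fun j hj => by
    refine (pow_eq_one_iff_of_nonneg zero_le' (show n j ≠ 0 by have := hn1 j; omega)).1 ?_
    rw [← map_pow, ht, hvu _ (ha j hj)]
  have hvπ : V.valuation (g (a i)) < 1 := hV.2 _ (by rw [mem_maximalIdeal, mem_nonunits_iff]; exact hi.not_isUnit)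
  have hvt : V.valuation (t i) < 1 := by
    by_contra h
    have := one_le_pow₀ (n := n i) (not_lt.1 h)
    rw [← map_pow, ht] at this
    exact (not_lt.2 this) hvπ
  have hti0 : t i ≠ 0 := fun h => by
    have h1 := ht i
    rw [h, zero_pow (by have := hn1 i; omega)] at h1
    exact hi.ne_zero (hg (by rw [← h1, map_zero]))
  have hVint : ∀ x ∈ C, x ∈ V := fun x hx => by
    induction hx using Algebra.adjoin_induction with
    | mem x hx =>
      obtain ⟨j, rfl⟩ := hx
      rw [← V.valuation_le_one_iff]
      by_cases hj : j = i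
      · exact hj ▸ hvt.le
      · exact (htj j hj).le
    | algebraMap b => exact hV.1 b
    | add x y _ _ hx hy => exact add_mem hx hy
    | mul x y _ _ hx hy => exact mul_mem hx hy
  let ι : C →ₐ[R] V :=
    { toFun := fun c => ⟨(c : L), hVint c c.2⟩
      map_one' := rfl
      map_mul' := fun _ _ => rfl
      map_zero' := rfl
      map_add' := fun _ _ => rfl
      commutes' := fun _ => rfl }
  let T : Fin r → C := fun j => ⟨t j, Algebra.subset_adjoin ⟨j, rfl⟩⟩
  haveI : Algebra.IsIntegral R C := ⟨fun c => by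
    have hle : C ≤ integralClosure R L := Algebra.adjoin_le (by
      rintro _ ⟨j, rfl⟩
      exact IsIntegral.of_pow (hn1 j) ((ht j).symm ▸ isIntegral_algebraMap (R := R) (x := a j)))
    exact (isIntegral_algHom_iff C.val Subtype.val_injective).1 (hle c.2)⟩
  have hTgen : Algebra.adjoin R (Set.range T) = ⊤ := by
    refine Subalgebra.map_injective (f := C.val) Subtype.val_injective ?_
    rw [AlgHom.map_adjoin, ← Set.range_comp, Algebra.map_top, Subalgebra.range_val]
    rfl
  -- the reduced quotient
  let Q := C ⧸ Ideal.span {T i}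
  have hmQ : ∀ b ∈ maximalIdeal R, algebraMap R Q b = 0 := fun b hb => by
    rw [hi.maximalIdeal_eq, Ideal.mem_span_singleton] at hb
    obtain ⟨d, rfl⟩ := hb
    rw [map_mul]
    refine mul_eq_zero_of_left ?_ _
    rw [← Ideal.Quotient.mk_algebraMap, Ideal.Quotient.eq_zero_iff_mem, Ideal.mem_span_singleton]
    have h1 : algebraMap R C (a i) = T i ^ n i := Subtype.ext (ht i).symm
    rw [h1]
    exact dvd_pow_self _ (by have := hn1 i; omega)
  letI : Algebra (ResidueField R) Q := (Ideal.Quotient.lift _ (algebraMap R Q) hmQ).toAlgebra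
  haveI : IsScalarTower R (ResidueField R) Q := IsScalarTower.of_algebraMap_eq fun _ => rfl
  haveI : Algebra.IsIntegral (ResidueField R) Q := ⟨fun x => by
    obtain ⟨c, rfl⟩ := Ideal.Quotient.mk_surjective x
    exact ((Algebra.IsIntegral.isIntegral (R := R) c).map (Ideal.Quotient.mkₐ R _)).tower_top⟩
  let res : V →ₐ[R] ResidueField V := IsScalarTower.toAlgHom R V (ResidueField V)
  let ψ₀ : Q →ₐ[R] ResidueField V := Ideal.Quotient.liftₐ _ (res.comp ι) (fun x hx => by
    obtain ⟨d, rfl⟩ := Ideal.mem_span_singleton.1 hx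
    rw [map_mul]
    exact mul_eq_zero_of_left ((residue_eq_zero_iff _).2 ((V.valuation_lt_one_iff (ι (T i))).2 hvt)) _)
  let ψ : Q →ₐ[ResidueField R] ResidueField V :=
    { ψ₀.toRingHom with
      commutes' := fun x => by
        obtain ⟨b, rfl⟩ := residue_surjective x
        exact ψ₀.commutes b }
  have hsep : ∀ j, ∃ P : Polynomial (ResidueField R), P.Separable ∧
      Polynomial.aeval (Ideal.Quotient.mk _ (T j) : Q) P = 0 := fun j => by
    by_cases hj : j = i
    · subst hj
      refine ⟨Polynomial.X, Polynomial.separable_X, ?_⟩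
      rw [Polynomial.aeval_X, Ideal.Quotient.eq_zero_iff_mem]
      exact Ideal.mem_span_singleton_self _
    · refine ⟨Polynomial.X ^ n j - Polynomial.C (residue R (a j)), Polynomial.separable_X_pow_sub_C _ ?_ ?_, ?_⟩
      · rw [← map_natCast (residue R)]; exact ((hn j).map _).ne_zero
      · exact ((ha j hj).map _).ne_zero
      · rw [map_sub, map_pow, Polynomial.aeval_X, Polynomial.aeval_C, ← map_pow, sub_eq_zero]
        show Ideal.Quotient.mk _ (T j ^ n j) = algebraMap R Q (a j)
        rw [← Ideal.Quotient.mk_algebraMap]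
        exact congrArg _ (Subtype.ext (ht j))
  haveI : IsReduced Q := by
    refine isReduced_of_adjoin (k := ResidueField R) (fun j => (Ideal.Quotient.mk _ (T j) : Q)) ?_ hsep
    refine top_le_iff.1 fun x _ => ?_
    obtain ⟨c, rfl⟩ := Ideal.Quotient.mk_surjective x
    have hc : c ∈ Algebra.adjoin R (Set.range T) := hTgen ▸ Algebra.mem_top
    induction hc using Algebra.adjoin_induction with
    | mem c hc => obtain ⟨j, rfl⟩ := hc; exact Algebra.subset_adjoin ⟨j, rfl⟩
    | algebraMap b =>
      rw [Ideal.Quotient.mk_algebraMap, IsScalarTower.algebraMap_apply R (ResidueField R) Q]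
      exact Subalgebra.algebraMap_mem _ _
    | add c d _ _ hc hd => rw [map_add]; exact add_mem (hc Algebra.mem_top) (hd Algebra.mem_top)
    | mul c d _ _ hc hd => rw [map_mul]; exact mul_mem (hc Algebra.mem_top) (hd Algebra.mem_top)
  have hresT : ∀ c : C, ψ (Ideal.Quotient.mk _ c) = residue V (ι c) := fun c => rfl
  -- one division step
  have step : ∀ y : C, V.valuation (y : L) < 1 →
      ∃ s y₁ : C, V.valuation (s : L) = 1 ∧ s * y = T i * y₁ := fun y hy => by
    obtain ⟨s, hs, hs0⟩ := exists_annihilator ψ (Ideal.Quotient.mk _ y)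
      (by rw [hresT]; exact (residue_eq_zero_iff _).2 ((V.valuation_lt_one_iff (ι y)).2 hy))
    obtain ⟨s, rfl⟩ := Ideal.Quotient.mk_surjective s
    rw [← map_mul, Ideal.Quotient.eq_zero_iff_mem, Ideal.mem_span_singleton] at hs0
    obtain ⟨y₁, hy₁⟩ := hs0
    refine ⟨s, y₁, ?_, hy₁⟩
    rw [hresT, Ne, residue_eq_zero_iff, mem_maximalIdeal, mem_nonunits_iff, not_not] at hs
    exact (V.valuation_eq_one_iff (ι s)).1 hs
  -- every element of `C` is a power of `t i` up to units
  have key : ∀ (m : ℕ) (y z u : C), V.valuation (u : L) = 1 → y * z = T i ^ m * u →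
      ∃ (k : ℕ) (s d : C), V.valuation (s : L) = 1 ∧ V.valuation (d : L) = 1 ∧ s * y = T i ^ k * d := by
    intro m
    induction m with
    | zero =>
      intro y z u hu h
      refine ⟨0, 1, y, by simp, ?_, by simp⟩
      have h' := congrArg (fun c : C => V.valuation (c : L)) h
      simp only [pow_zero, one_mul, MulMemClass.coe_mul, map_mul, hu] at h'
      have hy := (V.valuation_le_one_iff _).2 (hVint _ y.2)
      have hz := (V.valuation_le_one_iff _).2 (hVint _ z.2)
      exact le_antisymm hy (by rw [← h']; exact mul_le_of_le_one_right' hz)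
    | succ m ih =>
      intro y z u hu h
      by_cases hy : V.valuation (y : L) < 1
      · obtain ⟨s, y₁, hs, hsy⟩ := step y hy
        have h' : y₁ * z = T i ^ m * (s * u) := by
          refine mul_left_cancel₀ (a := T i) (fun h0 => hti0 (congrArg Subtype.val h0)) ?_
          rw [← mul_assoc, ← hsy, mul_assoc, h, pow_succ]; ring
        obtain ⟨k, s', d, hs', hd, hk⟩ := ih y₁ z (s * u) (by simp [hs, hu]) h'
        refine ⟨k + 1, s' * s, d, by simp [hs, hs'], hd, ?_⟩
        rw [mul_assoc, hsy, mul_left_comm, hk, pow_succ]; ring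
      · exact ⟨0, 1, y, by simp, le_antisymm ((V.valuation_le_one_iff _).2 (hVint _ y.2)) (not_lt.1 hy), by simp⟩
  have hgR : ∀ b : R, algebraMap R C b = ⟨g b, C.algebraMap_mem b⟩ := fun _ => rfl
  have dec : ∀ y : C, (y : L) ≠ 0 →
      ∃ (k : ℕ) (w : L), y = (t i ^ k * w : L) ∧ V.valuation w = 1 ∧
        ∃ s d : C, V.valuation (s : L) = 1 ∧ V.valuation (d : L) = 1 ∧ w = (d : L) / (s : L) := fun y hy => by
    have hy0 : y ∈ nonZeroDivisors C := mem_nonZeroDivisors_of_ne_zero fun h => hy (congrArg Subtype.val h)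
    obtain ⟨b, hb0, z, hbz⟩ := ((Algebra.IsIntegral.isIntegral (R := R) y).isAlgebraic).exists_nonzero_dvd hy0
    obtain ⟨e, u, hbu⟩ := IsDiscreteValuationRing.eq_unit_mul_pow_irreducible hb0 hi
    obtain ⟨k, s, d, hs, hd, hk⟩ := key (n i * e) y z (algebraMap R C (u : R)) (hvu _ u.isUnit) (by
      rw [← hbz, hbu, map_mul, map_pow, pow_mul, mul_comm]
      congr 2
      exact Subtype.ext (ht i).symm)
    have hs0 : (s : L) ≠ 0 := fun h => by rw [h, map_zero] at hs; exact zero_ne_one hs
    refine ⟨k, (d : L) / (s : L), ?_, by rw [map_div₀, hs, hd, div_one], s, d, hs, hd, rfl⟩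
    have hk' := congrArg Subtype.val hk
    simp only [MulMemClass.coe_mul, SubmonoidClass.coe_pow] at hk'
    rw [mul_div_assoc', eq_div_iff hs0, mul_comm]
    exact hk'
  have dec' : ∀ x : L, x ≠ 0 → ∃ (k : ℤ) (w : L), x = t i ^ k * w ∧ V.valuation w = 1 ∧
      ∃ s d : C, V.valuation (s : L) = 1 ∧ V.valuation (d : L) = 1 ∧ w = (d : L) / (s : L) := fun x hx => by
    obtain ⟨y, z, hy, hz, hz0, rfl⟩ := hfrac x
    have hy0 : y ≠ 0 := fun h => hx (by rw [h, zero_div])
    obtain ⟨k, w, hk, hw, s, d, hs, hd, hw'⟩ := dec ⟨y, hCclos y hy⟩ hy0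
    obtain ⟨k₁, w₁, hk₁, hw₁, s₁, d₁, hs₁, hd₁, hw₁'⟩ := dec ⟨z, hCclos z hz⟩ hz0
    refine ⟨(k : ℤ) - k₁, w / w₁, ?_, by rw [map_div₀, hw, hw₁, div_one], s * d₁, d * s₁,
      by simp [hs, hd₁], by simp [hd, hs₁], by rw [hw', hw₁']; simp [div_div_div_eq]⟩
    show y / z = _
    rw [show y = t i ^ k * w from hk, show z = t i ^ k₁ * w₁ from hk₁, zpow_sub₀ hti0, zpow_natCast,
      zpow_natCast, mul_div_mul_comm]
  have hm : maximalIdeal V = Ideal.span {ι (T i)} := by
    refine le_antisymm (fun x hx => ?_) ((Ideal.span_singleton_le_iff_mem _).2 ((V.valuation_lt_one_iff _).2 hvt))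
    rw [Ideal.mem_span_singleton]
    by_cases hx0 : (x : L) = 0
    · exact ⟨0, Subtype.ext (by simpa using hx0)⟩
    obtain ⟨k, w, hk, hw, -⟩ := dec' (x : L) hx0
    have hxv := (V.valuation_lt_one_iff x).1 hx
    rw [hk, map_mul, hw, mul_one, map_zpow₀] at hxv
    have hk1 : 1 ≤ k := by
      by_contra h
      refine (not_lt.2 ?_) hxv
      exact one_le_zpow_of_nonpos₀ (zero_lt_iff.2 ((Valuation.ne_zero_iff _).2 hti0)) hvt.le (by omega)
    obtain ⟨l, rfl⟩ : ∃ l : ℕ, k = (l : ℤ) + 1 := ⟨(k - 1).toNat, by omega⟩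
    refine ⟨⟨t i ^ l * w, (V.valuation_le_one_iff _).1 ?_⟩, Subtype.ext ?_⟩
    · rw [map_mul, hw, mul_one, map_pow]; exact pow_le_one' hvt.le l
    · show (x : L) = t i * (t i ^ l * w)
      rw [hk, zpow_add_one₀ hti0, zpow_natCast]; ring
  have hmap : (maximalIdeal R).map (algebraMap R V) = maximalIdeal V ^ n i := by
    rw [hi.maximalIdeal_eq, Ideal.map_span, Set.image_singleton, hm, Ideal.span_singleton_pow]
    congr 2
    exact Subtype.ext (ht i).symm
  have he : Ideal.ramificationIdx' (maximalIdeal R) (maximalIdeal V) = n i := by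
    refine Ideal.ramificationIdx'_spec hmap.le fun h => ?_
    rw [hmap, hm, Ideal.span_singleton_pow, Ideal.span_singleton_pow, Ideal.span_singleton_le_span_singleton,
      pow_succ] at h
    obtain ⟨c, hc⟩ := h
    have hc' : ι (T i) * c = 1 := by
      refine mul_left_cancel₀ (a := ι (T i) ^ n i) (pow_ne_zero _ fun h0 => hti0 (congrArg Subtype.val h0)) ?_
      rw [← mul_assoc, ← hc, mul_one]
    exact (mem_nonunits_iff.1 ((mem_maximalIdeal _).1 ((V.valuation_lt_one_iff (ι (T i))).2 hvt)))
      (IsUnit.of_mul_eq_one _ hc')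
  refine ⟨⟨fun x => ?_⟩, fun p hp _ hdvd => ?_⟩
  · have hC : ∀ c : C, residue V (ι c) ∈ separableClosure (ResidueField R) (ResidueField V) := fun c => by
      have hc : c ∈ Algebra.adjoin R (Set.range T) := hTgen ▸ Algebra.mem_top
      induction hc using Algebra.adjoin_induction with
      | mem c hc =>
        obtain ⟨j, rfl⟩ := hc
        obtain ⟨P, hP, hP0⟩ := hsep j
        rw [mem_separableClosure_iff]
        refine hP.of_dvd (minpoly.dvd _ _ ?_)
        rw [← hresT, Polynomial.aeval_algHom_apply, hP0, map_zero]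
      | algebraMap b =>
        rw [AlgHom.commutes]
        exact IntermediateField.algebraMap_mem _ (residue R b)
      | add c d _ _ hc hd => rw [map_add, map_add]; exact add_mem hc hd
      | mul c d _ _ hc hd => rw [map_mul, map_mul]; exact mul_mem hc hd
    rw [← mem_separableClosure_iff]
    obtain ⟨x, rfl⟩ := residue_surjective x
    by_cases hxm : x ∈ maximalIdeal V
    · rw [(residue_eq_zero_iff _).2 hxm]; exact zero_mem _
    have hxv : V.valuation (x : L) = 1 := (V.valuation_eq_one_iff x).1 (by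
      simpa [mem_maximalIdeal, mem_nonunits_iff] using hxm)
    obtain ⟨k, w, hk, hw, s, d, hs, hd, hw'⟩ := dec' (x : L) fun h => by rw [h, map_zero] at hxv; exact zero_ne_one hxv
    have hk0 : k = 0 := by
      rw [hk, map_mul, hw, mul_one, map_zpow₀] at hxv
      exact (zpow_eq_one_iff_right₀ zero_le' hvt.ne).1 hxv
    subst hk0
    rw [zpow_zero, one_mul, hw'] at hk
    have hs' : residue V (ι s) ≠ 0 := by
      rw [Ne, residue_eq_zero_iff, mem_maximalIdeal, mem_nonunits_iff, not_not]
      exact (V.valuation_eq_one_iff (ι s)).2 hs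
    have hx' : x * ι s = ι d := Subtype.ext (by
      show (x : L) * (s : L) = (d : L)
      rw [hk, div_mul_cancel₀]
      exact fun h => by rw [h, map_zero] at hs; exact zero_ne_one hs)
    have : residue V x = residue V (ι d) / residue V (ι s) := by
      rw [eq_div_iff hs', ← map_mul, hx']
    rw [this]
    exact div_mem (hC d) (hC s)
  · rw [he] at hdvd
    have hu := (hn i).map (residue R)
    rw [map_natCast] at hu
    exact hu.ne_zero ((CharP.cast_eq_zero_iff (ResidueField R) p (n i)).2 hdvd)

end TameKummerLib
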